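import Cfsg.Prelude.Def_GeometricClasses
import Mathlib.GroupTheory.Perm.Cycle.Type
import Mathlib.Tactic.NoncommRing
import Mathlib.RingTheory.RootsOfUnity.PrimitiveRoots
import Mathlib.LinearAlgebra.Eigenspace.Basic

/-! Eigenspaces of elements normalising groups with scalar commutators. -/

set_option autoImplicit false

namespace Cfsg.Agent.ExtraEigen

open Matrix Module
open scoped commutatorElement

variable {F : Type*} [Field F] {n : ℕ}

local notation "GLn" => GL (Fin n) F
local notation "Sc" => Cfsg.Geo.scalars (Fin n) F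

/-- The eigenspace of an invertible matrix. -/
noncomputable abbrev Eig (y : GL (Fin n) F) (c : F) : Submodule F (Fin n → F) :=
  Module.End.eigenspace (Matrix.toLin' (y : Matrix (Fin n) (Fin n) F)) c

theorem mem_eig {y : GLn} {c : F} {v : Fin n → F} :
    v ∈ Eig y c ↔ (y : Matrix (Fin n) (Fin n) F) *ᵥ v = c • v := by
  rw [Module.End.mem_eigenspace_iff, Matrix.toLin'_apply]

theorem scalar_mulVec {z : GLn} (hz : z ∈ Sc) : ∃ w : F, w ≠ 0 ∧
    ∀ v : Fin n → F, (z : Matrix (Fin n) (Fin n) F) *ᵥ v = w • v := by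
  obtain ⟨c, hc⟩ := (Cfsg.Geo.mem_scalars_iff z).mp hz
  exact ⟨c, c.ne_zero, fun v => by rw [hc, Matrix.smul_mulVec, Matrix.one_mulVec]⟩

theorem scalar_comm {z : GLn} (hz : z ∈ Sc) (a : GLn) : z * a = a * z := by
  obtain ⟨c, hc⟩ := (Cfsg.Geo.mem_scalars_iff z).mp hz
  exact Units.ext (by rw [Units.val_mul, Units.val_mul, hc]; simp)

theorem mem_scalars_of_smul {z : GLn} {c : F} (hc : (z : Matrix (Fin n) (Fin n) F) = c • 1) : z ∈ Sc := by
  rcases eq_or_ne c 0 with rfl | h
  · rw [zero_smul] at hc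
    have h1 : (z : Matrix (Fin n) (Fin n) F) * ((z⁻¹ : GLn) : Matrix (Fin n) (Fin n) F) = 1 := z.mul_inv
    rw [hc, zero_mul] at h1
    exact (Cfsg.Geo.mem_scalars_iff z).mpr ⟨1, by rw [hc]; simp [← h1]⟩
  · exact (Cfsg.Geo.mem_scalars_iff z).mpr ⟨Units.mk0 c h, hc⟩

instance scalars_normal : (Cfsg.Geo.scalars (Fin n) F).Normal :=
  ⟨fun z hz g => by rw [← scalar_comm hz g, mul_inv_cancel_right]; exact hz⟩

theorem sum_finrank_le {ι : Type*} [Fintype ι] (p : ι → Submodule F (Fin n → F)) (hp : iSupIndep p)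
    (T : Submodule F (Fin n → F)) (hle : ∀ i, p i ≤ T) : ∑ i, finrank F (p i) ≤ finrank F T := by
  classical
  suffices h : ∀ s : Finset ι, ∑ i ∈ s, finrank F (p i) ≤ finrank F (s.sup p : Submodule F (Fin n → F)) from
    (h Finset.univ).trans (Submodule.finrank_mono (Finset.sup_le fun i _ => hle i))
  intro s
  induction s using Finset.induction_on with
  | empty => simp
  | @insert a s ha ih =>
    rw [Finset.sum_insert ha, Finset.sup_insert]
    have hd : p a ⊓ s.sup p = ⊥ := by
      refine ((hp a).mono_right (Finset.sup_le fun i hi => ?_)).eq_bot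
      exact le_iSup₂_of_le i (fun e => ha (e ▸ hi)) le_rfl
    have h := Submodule.finrank_sup_add_finrank_inf_eq (p a) (s.sup p)
    rw [hd, finrank_bot, add_zero] at h
    rw [h]
    omega

theorem finrank_le_sum {ι : Type*} [Fintype ι] (p : ι → Submodule F (Fin n → F))
    (W : Submodule F (Fin n → F)) (hW : W ≤ ⨆ i, p i) : finrank F W ≤ ∑ i, finrank F (p i) := by
  classical
  refine (Submodule.finrank_mono hW).trans ?_
  rw [← Finset.sup_univ_eq_iSup]
  induction (Finset.univ : Finset ι) using Finset.induction_on with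
  | empty => simp
  | @insert a s ha ih =>
    rw [Finset.sum_insert ha, Finset.sup_insert]
    exact (Submodule.finrank_add_le_finrank_add_finrank _ _).trans (Nat.add_le_add_left ih _)

theorem finrank_le_of_maps {x : GLn} {U T : Submodule F (Fin n → F)}
    (h : ∀ v ∈ U, (x : Matrix (Fin n) (Fin n) F) *ᵥ v ∈ T) : finrank F U ≤ finrank F T := by
  let f : U →ₗ[F] T := LinearMap.codRestrict T ((Matrix.mulVecLin (x : Matrix (Fin n) (Fin n) F)).comp U.subtype)
    fun v => h v v.2
  refine LinearMap.finrank_le_finrank_of_injective (f := f) fun a b e => Subtype.ext ?_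
  have e' : (x : Matrix (Fin n) (Fin n) F) *ᵥ (a : Fin n → F) = (x : Matrix (Fin n) (Fin n) F) *ᵥ (b : Fin n → F) :=
    congrArg Subtype.val e
  exact Matrix.mulVec_injective_of_isUnit x.isUnit e'

theorem eig_zero (y : GLn) : finrank F (Eig y 0) = 0 := by
  rw [Submodule.finrank_eq_zero, eq_bot_iff]
  intro v hv
  rw [mem_eig, zero_smul] at hv
  exact Matrix.mulVec_injective_of_isUnit y.isUnit (hv.trans (Matrix.mulVec_zero _).symm)

theorem indep_shift {y : GLn} {q : ℕ} (μ : Fin q → F) (hμ : Function.Injective μ) :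
    iSupIndep fun i => Eig y (μ i) :=
  (Module.End.eigenspaces_iSupIndep _).comp hμ

/-- A commutator which is a scalar of prime order spreads each eigenspace over as many eigenspaces. -/
theorem shift_bound {u y z : GLn} {q : ℕ} (hq : q.Prime) (hz : z ∈ Sc) (hz1 : z ≠ 1) (hzq : z ^ q = 1)
    (h : u * y = z * (y * u)) (c : F) : q * finrank F (Eig y c) ≤ n := by
  classical
  rcases eq_or_ne c 0 with rfl | hc
  · rw [eig_zero]; simp
  obtain ⟨w, hw0, hw⟩ := scalar_mulVec hz
  rcases eq_or_ne n 0 with hn | hn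
  · exact absurd (Units.ext (by subst hn; exact Subsingleton.elim _ _)) hz1
  have hw1 : w ≠ 1 := by
    intro e
    refine hz1 (Units.ext (Matrix.toLin'.injective (LinearMap.ext fun v => ?_)))
    simp [hw v, e]
  have hpow : ∀ (i : ℕ) (v : Fin n → F), ((z ^ i : GLn) : Matrix (Fin n) (Fin n) F) *ᵥ v = w ^ i • v := by
    intro i
    induction i with
    | zero => simp
    | succ i ih => intro v; rw [pow_succ, Units.val_mul, ← Matrix.mulVec_mulVec, hw, Matrix.mulVec_smul, ih,
        smul_smul, pow_succ, mul_comm]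
  have hwq : w ^ q = 1 := by
    have h1 := hpow q (Pi.single ⟨0, Nat.pos_of_ne_zero hn⟩ 1)
    rw [hzq, Units.val_one, Matrix.one_mulVec] at h1
    have h2 := congrFun h1 ⟨0, Nat.pos_of_ne_zero hn⟩
    simpa using h2.symm
  haveI := Fact.mk hq
  have hprim : IsPrimitiveRoot w q := by
    rw [← orderOf_eq_prime hwq hw1]; exact IsPrimitiveRoot.orderOf w
  have hstep : ∀ (d : F) (v : Fin n → F), v ∈ Eig y d →
      (u : Matrix (Fin n) (Fin n) F) *ᵥ v ∈ Eig y (d * w⁻¹) := by
    intro d v hv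
    rw [mem_eig] at hv ⊢
    have h' : (u : Matrix (Fin n) (Fin n) F) *ᵥ ((y : Matrix (Fin n) (Fin n) F) *ᵥ v) =
        w • ((y : Matrix (Fin n) (Fin n) F) *ᵥ ((u : Matrix (Fin n) (Fin n) F) *ᵥ v)) := by
      rw [← hw, Matrix.mulVec_mulVec, Matrix.mulVec_mulVec, Matrix.mulVec_mulVec, ← Units.val_mul,
        ← Units.val_mul, ← Units.val_mul, h, mul_assoc]
    rw [hv, Matrix.mulVec_smul] at h'
    rw [mul_comm d, mul_smul, h', inv_smul_smul₀ hw0]
  have hit : ∀ (i : ℕ) (v : Fin n → F), v ∈ Eig y c →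
      ((u ^ i : GLn) : Matrix (Fin n) (Fin n) F) *ᵥ v ∈ Eig y (c * w⁻¹ ^ i) := by
    intro i
    induction i with
    | zero => intro v hv; simpa using hv
    | succ i ih =>
      intro v hv
      rw [pow_succ' u, Units.val_mul, ← Matrix.mulVec_mulVec, pow_succ, ← mul_assoc]
      exact hstep _ _ (ih v hv)
  have hinj : Function.Injective fun i : Fin q => c * w⁻¹ ^ (i : ℕ) := fun i j e =>
    Fin.ext (hprim.inv.pow_inj i.2 j.2 (mul_left_cancel₀ hc e))
  have hsum := sum_finrank_le _ (indep_shift (y := y) _ hinj) ⊤ fun _ => le_top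
  rw [finrank_top, Module.finrank_fin_fun] at hsum
  refine le_trans ?_ hsum
  calc q * finrank F (Eig y c) = ∑ _i : Fin q, finrank F (Eig y c) := by simp
    _ ≤ _ := Finset.sum_le_sum fun i _ => finrank_le_of_maps (x := u ^ (i : ℕ)) (hit i)

theorem meet_bound {g x : GLn} {c : F} (hc : c ≠ 0) :
    finrank F (Eig g c) + finrank F (Eig g c) ≤
      n + finrank F ((Eig g c ⊓ (Eig g c).map (Matrix.mulVecLin (x : Matrix (Fin n) (Fin n) F))) :
        Submodule F (Fin n → F)) ∧
    ∀ j : ℕ, Eig g c ⊓ (Eig g c).map (Matrix.mulVecLin (x : Matrix (Fin n) (Fin n) F)) ≤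
      Eig ⁅g ^ j, x⁆ 1 := by
  constructor
  · have h1 : finrank F (Eig g c) ≤
        finrank F ((Eig g c).map (Matrix.mulVecLin (x : Matrix (Fin n) (Fin n) F))) :=
      finrank_le_of_maps (x := x) fun v hv => Submodule.mem_map_of_mem hv
    have h2 := Submodule.finrank_sup_add_finrank_inf_eq (Eig g c)
      ((Eig g c).map (Matrix.mulVecLin (x : Matrix (Fin n) (Fin n) F)))
    have h3 := (Eig g c ⊔ (Eig g c).map (Matrix.mulVecLin (x : Matrix (Fin n) (Fin n) F))).finrank_le
    rw [Module.finrank_fin_fun] at h3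
    omega
  · rintro j _ ⟨hv, w, hw, rfl⟩
    have hpow : ∀ (j : ℕ) (u : Fin n → F), u ∈ Eig g c →
        ((g ^ j : GLn) : Matrix (Fin n) (Fin n) F) *ᵥ u = c ^ j • u := by
      intro j
      induction j with
      | zero => simp
      | succ j ih =>
        intro u hu
        rw [pow_succ, Units.val_mul, ← Matrix.mulVec_mulVec, mem_eig.mp hu, Matrix.mulVec_smul, ih u hu,
          smul_smul, pow_succ, mul_comm]
    have hinv : (((g ^ j)⁻¹ : GLn) : Matrix (Fin n) (Fin n) F) *ᵥ w = (c ^ j)⁻¹ • w := by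
      refine Matrix.mulVec_injective_of_isUnit (g ^ j).isUnit ?_
      rw [Matrix.mulVec_smul, hpow j w hw, Matrix.mulVec_mulVec, ← Units.val_mul, mul_inv_cancel,
        Units.val_one, Matrix.one_mulVec, inv_smul_smul₀ (pow_ne_zero j hc)]
    rw [mem_eig, one_smul, commutatorElement_def, Units.val_mul, Matrix.mulVecLin_apply, Matrix.mulVec_mulVec,
      mul_assoc, ← Units.val_mul, inv_mul_cancel, Units.val_one, mul_one, Units.val_mul, Units.val_mul,
      ← Matrix.mulVec_mulVec, hinv, Matrix.mulVec_smul, ← Matrix.mulVec_mulVec, hpow j ((x : Matrix (Fin n) (Fin n) F) *ᵥ w) hv, inv_smul_smul₀ (pow_ne_zero j hc)]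

end Cfsg.Agent.ExtraEigen
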