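import Cfsg.Agent.Lib.ExtraEigen.Basic
import Mathlib.Algebra.Module.ZMod
import Mathlib.RingTheory.Int.Basic
import Mathlib.GroupTheory.Exponent

/-! Eigenspace bounds in normalisers of extraspecial groups. -/

set_option autoImplicit false

namespace Cfsg.Agent.ExtraEigen

open Matrix Module
open scoped commutatorElement

variable {F : Type*} [Field F] {n r k : ℕ}

local notation "GLn" => GL (Fin n) F
local notation "Sc" => Cfsg.Geo.scalars (Fin n) F

/-- The properties of the product of the group with the scalars which the bounds need. -/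
structure Datum (R : Subgroup (GL (Fin n) F)) (r : ℕ) (S : Subgroup (GL (Fin n) F)) : Prop where
  prime : r.Prime
  scal_le : Cfsg.Geo.scalars (Fin n) F ≤ S
  le_S : R ≤ S
  split : ∀ a ∈ S, ∃ b ∈ R, ∃ z ∈ Cfsg.Geo.scalars (Fin n) F, a = b * z
  comm_mem : ∀ a ∈ S, ∀ b ∈ S, ⁅a, b⁆ ∈ Cfsg.Geo.scalars (Fin n) F
  comm_pow : ∀ a ∈ S, ∀ b ∈ S, ⁅a, b⁆ ^ r = 1
  nondeg : ∀ a ∈ S, (∀ u ∈ R, ⁅u, a⁆ = 1) → a ∈ Cfsg.Geo.scalars (Fin n) F
  centr : ∀ a : GL (Fin n) F, (∀ u ∈ R, ⁅a, u⁆ = 1) → a ∈ Cfsg.Geo.scalars (Fin n) F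
  expo : r ≠ 2 → ∀ a ∈ R, a ^ r = 1

theorem comm_mul_right {a b c : GLn} (h : ⁅a, c⁆ ∈ Sc) : ⁅a, b * c⁆ = ⁅a, b⁆ * ⁅a, c⁆ := by
  calc ⁅a, b * c⁆ = ⁅a, b⁆ * (b * ⁅a, c⁆ * b⁻¹) := by simp only [commutatorElement_def]; group
    _ = _ := by rw [← scalar_comm h b, mul_inv_cancel_right]

theorem comm_scalar_right {a c : GLn} (h : c ∈ Sc) : ⁅a, c⁆ = 1 :=
  commutatorElement_eq_one_iff_mul_comm.mpr (scalar_comm h a).symm

theorem comm_mul_scalar {a b c : GLn} (h : c ∈ Sc) : ⁅a, b * c⁆ = ⁅a, b⁆ := by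
  rw [comm_mul_right (comm_scalar_right (a := a) h ▸ one_mem _), comm_scalar_right h, mul_one]

theorem comm_pow_left {g a : GLn} (h : ⁅g, a⁆ ∈ Sc) (m : ℕ) : ⁅g ^ m, a⁆ = ⁅g, a⁆ ^ m := by
  induction m with
  | zero => simp [commutatorElement_def]
  | succ m ih =>
    have hc := scalar_comm h (g ^ m)
    calc ⁅g ^ (m + 1), a⁆ = g ^ m * ⁅g, a⁆ * (g ^ m)⁻¹ * ⁅g ^ m, a⁆ := by
          simp only [commutatorElement_def, pow_succ]; group
      _ = _ := by rw [← hc, mul_inv_cancel_right, ih, pow_succ']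

variable {R S : Subgroup (GL (Fin n) F)}

theorem Datum.eig_bound (D : Datum R r S) {a : GLn} (ha : a ∈ S) (hns : a ∉ Sc) (c : F) :
    r * finrank F (Eig a c) ≤ n := by
  have : ∃ u ∈ R, ⁅u, a⁆ ≠ 1 := by
    by_contra hc
    push Not at hc
    exact hns (D.nondeg a ha hc)
  obtain ⟨u, hu, hne⟩ := this
  exact shift_bound D.prime (D.comm_mem u (D.le_S hu) a ha) hne (D.comm_pow u (D.le_S hu) a ha)
    (u := u) (y := a) (by rw [commutatorElement_def]; group) c

theorem Datum.dvd (D : Datum R r S) (hne : ∃ a ∈ S, a ∉ Sc) : r ∣ n := by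
  classical
  obtain ⟨a, ha, hns⟩ := hne
  have : ∃ u ∈ R, ⁅u, a⁆ ≠ 1 := by
    by_contra hc
    push Not at hc
    exact hns (D.nondeg a ha hc)
  obtain ⟨u, hu, hne⟩ := this
  obtain ⟨w, hw⟩ := (Cfsg.Geo.mem_scalars_iff _).mp (D.comm_mem u (D.le_S hu) a ha)
  have hdet : (w : F) ^ n = 1 := by
    have h1 : Matrix.det ((⁅u, a⁆ : GLn) : Matrix (Fin n) (Fin n) F) = 1 := by
      have : ((Matrix.GeneralLinearGroup.det ⁅u, a⁆ : Fˣ) : F) = 1 := by
        rw [map_commutatorElement, commutatorElement_eq_one_iff_mul_comm.mpr (mul_comm _ _), Units.val_one]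
      exact this
    rw [hw, Matrix.det_smul, Matrix.det_one, mul_one, Fintype.card_fin] at h1
    exact h1
  have hwr : (w : F) ^ r = 1 := by
    have h1 := congrArg (fun z : GLn => Matrix.det (z : Matrix (Fin n) (Fin n) F)) (D.comm_pow u (D.le_S hu) a ha)
    have h2 : ((⁅u, a⁆ ^ r : GLn) : Matrix (Fin n) (Fin n) F) = (w : F) ^ r • 1 := by
      rw [Units.val_pow_eq_pow_val, hw, smul_pow, one_pow]
    rw [D.comm_pow u (D.le_S hu) a ha, Units.val_one] at h2
    rcases eq_or_ne n 0 with hn | hn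
    · subst hn
      exact absurd (Units.ext (Subsingleton.elim _ _)) hne
    · have h3 := congrFun (congrFun h2 ⟨0, Nat.pos_of_ne_zero hn⟩) ⟨0, Nat.pos_of_ne_zero hn⟩
      simpa using h3.symm
  have hw1 : (w : F) ≠ 1 := fun e => hne (Units.ext (by rw [hw, e, one_smul, Units.val_one]))
  haveI := Fact.mk D.prime
  exact (orderOf_eq_prime hwr hw1) ▸ orderOf_dvd_of_pow_eq_one hdet

variable {g : GL (Fin n) F}

theorem Datum.two_mul_le (D : Datum R r S) (hgS : ∀ a ∈ S, g * a * g⁻¹ ∈ S) {x : GLn} (hx : x ∈ S)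
    (hy : ⁅g, x⁆ ∉ Sc) {c : F} (hc : c ≠ 0) :
    r * (2 * finrank F (Eig g c)) ≤ r * n + n := by
  obtain ⟨h1, h2⟩ := meet_bound (g := g) (x := x) (c := c) hc
  have h3 := Submodule.finrank_mono (h2 1)
  rw [pow_one] at h3
  have hmem : ⁅g, x⁆ ∈ S := by
    rw [commutatorElement_def]; exact S.mul_mem (hgS x hx) (S.inv_mem hx)
  have h4 := D.eig_bound hmem hy 1
  calc r * (2 * finrank F (Eig g c)) ≤ r * (n + finrank F (Eig ⁅g, x⁆ 1)) := Nat.mul_le_mul_left r (by omega)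
    _ ≤ _ := by rw [Nat.mul_add]; omega

theorem two_mul_le_of_noncomm {x : GL (Fin n) F} {c : F} (hc : c ≠ 0) (i j : ℕ)
    (hs : ⁅⁅g ^ i, x⁆, ⁅g ^ j, x⁆⁆ ∈ Sc) (hne : ⁅⁅g ^ i, x⁆, ⁅g ^ j, x⁆⁆ ≠ 1) :
    2 * finrank F (Eig g c) ≤ n := by
  obtain ⟨h1, h2⟩ := meet_bound (g := g) (x := x) (c := c) hc
  by_contra hlt
  have hpos : 0 < finrank F ((Eig g c ⊓ (Eig g c).map (Matrix.mulVecLin (x : Matrix (Fin n) (Fin n) F))) :
      Submodule F (Fin n → F)) := by omega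
  obtain ⟨v, hv, hv0⟩ := Submodule.exists_mem_ne_zero_of_ne_bot
    (p := Eig g c ⊓ (Eig g c).map (Matrix.mulVecLin (x : Matrix (Fin n) (Fin n) F))) (by
      intro e; rw [e, finrank_bot] at hpos; exact lt_irrefl 0 hpos)
  have fix : ∀ m : ℕ, ((⁅g ^ m, x⁆ : GLn) : Matrix (Fin n) (Fin n) F) *ᵥ v = v := fun m => by
    simpa using mem_eig.mp (h2 m hv)
  have fixinv : ∀ a : GLn, (a : Matrix (Fin n) (Fin n) F) *ᵥ v = v →
      ((a⁻¹ : GLn) : Matrix (Fin n) (Fin n) F) *ᵥ v = v := fun a ha => by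
    conv_lhs => rw [← ha]
    rw [Matrix.mulVec_mulVec, ← Units.val_mul, inv_mul_cancel, Units.val_one, Matrix.one_mulVec]
  have hfix : ((⁅⁅g ^ i, x⁆, ⁅g ^ j, x⁆⁆ : GLn) : Matrix (Fin n) (Fin n) F) *ᵥ v = v := by
    rw [commutatorElement_def ⁅g ^ i, x⁆, Units.val_mul, Units.val_mul, Units.val_mul, ← Matrix.mulVec_mulVec,
      fixinv _ (fix j), ← Matrix.mulVec_mulVec, fixinv _ (fix i), ← Matrix.mulVec_mulVec, fix j, fix i]
  obtain ⟨w, hw⟩ := (Cfsg.Geo.mem_scalars_iff _).mp hs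
  rw [hw, Matrix.smul_mulVec, Matrix.one_mulVec] at hfix
  have hw1 : (w : F) = 1 := smul_left_injective F hv0 (hfix.trans (one_smul F v).symm)
  exact hne (Units.ext (by rw [hw, hw1, one_smul, Units.val_one]))

/-- The action of the normalising element on the product modulo scalars. -/
theorem Datum.exists_noncomm_or (D : Datum R r S) (hgS : ∀ a ∈ S, g * a * g⁻¹ ∈ S)
    (hk : k.Prime) (hk2 : k ≠ 2) (hkr : k ≠ r) (hgk : g ^ k = 1)
    (hall : ∀ x ∈ S, ⁅⁅g, x⁆, ⁅g ^ 2, x⁆⁆ = 1) : ∀ x ∈ S, ⁅g, x⁆ ∈ Sc := by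
  classical
  let N : Subgroup S := (Cfsg.Geo.scalars (Fin n) F).subgroupOf S
  haveI : N.Normal := scalars_normal.subgroupOf S
  let A := S ⧸ N
  letI : CommGroup A := { (inferInstance : Group A) with
    mul_comm := fun a b => by
      obtain ⟨a, rfl⟩ := QuotientGroup.mk_surjective a
      obtain ⟨b, rfl⟩ := QuotientGroup.mk_surjective b
      rw [← QuotientGroup.mk_mul, ← QuotientGroup.mk_mul, QuotientGroup.eq]
      show ((a * b)⁻¹ * (b * a) : S).1 ∈ Sc
      have e : ((a * b)⁻¹ * (b * a) : S).1 = ⁅(b : GLn)⁻¹, (a : GLn)⁻¹⁆ := by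
        simp only [Subgroup.coe_mul, Subgroup.coe_inv, commutatorElement_def]; group
      rw [e]
      exact D.comm_mem _ (S.inv_mem b.2) _ (S.inv_mem a.2) }
  let cj : S →* S := MonoidHom.mk' (fun a => ⟨g * a * g⁻¹, hgS a a.2⟩) fun a b => Subtype.ext (by
    simp only [Subgroup.coe_mul]; group)
  let T : A →* A := QuotientGroup.map N N cj fun a ha => by
    show g * (a : GLn) * g⁻¹ ∈ Sc
    rw [← scalar_comm (show (a : GLn) ∈ Sc from ha) g, mul_inv_cancel_right]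
    exact ha
  have hT : ∀ a : S, T (QuotientGroup.mk a) = QuotientGroup.mk (cj a) := fun a => rfl
  have hcj : ∀ (m : ℕ) (a : S), ((cj^[m] a : S) : GLn) = g ^ m * a * (g ^ m)⁻¹ := by
    intro m a
    induction m with
    | zero => simp
    | succ m ih =>
      rw [Function.iterate_succ_apply']
      show g * _ * g⁻¹ = _
      rw [ih, pow_succ']
      group
  -- polarise
  have hconj : ∀ a b : GLn, a ∈ S → b ∈ S → ⁅g * a * g⁻¹, g * b * g⁻¹⁆ = ⁅a, b⁆ := fun a b ha hb => by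
    rw [show ⁅g * a * g⁻¹, g * b * g⁻¹⁆ = g * ⁅a, b⁆ * g⁻¹ by simp only [commutatorElement_def]; group,
      ← scalar_comm (D.comm_mem a ha b hb) g, mul_inv_cancel_right]
  have hq : ∀ a : S, ⁅(a : GLn), (cj (cj a) : GLn)⁆ = ⁅(a : GLn), (cj a : GLn)⁆ ^ 2 := by
    intro a
    have h := hall a a.2
    have e1 : ⁅g, (a : GLn)⁆ = (cj a : GLn) * (a : GLn)⁻¹ := rfl
    have e2 : ⁅g ^ 2, (a : GLn)⁆ = (cj (cj a) : GLn) * (a : GLn)⁻¹ := by
      show g ^ 2 * a * (g ^ 2)⁻¹ * (a : GLn)⁻¹ = g * (g * a * g⁻¹) * g⁻¹ * (a : GLn)⁻¹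
      rw [pow_two]; group
    rw [e1, e2] at h
    set p := (cj a : GLn) with hp
    set q := (cj (cj a) : GLn) with hq'
    have hpS : p ∈ S := (cj a).2
    have hqS : q ∈ S := (cj (cj a)).2
    have haS : (a : GLn) ∈ S := a.2
    have hai : (a : GLn)⁻¹ ∈ S := S.inv_mem haS
    have hpq : ⁅p, q⁆ = ⁅(a : GLn), p⁆ := hconj a p haS hpS
    have i1 : ⁅p, (a : GLn)⁻¹⁆ = ⁅(a : GLn), p⁆ := by
      have h' := comm_mul_right (a := p) (b := (a : GLn)⁻¹) (c := (a : GLn)) (D.comm_mem _ hpS _ haS)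
      rw [inv_mul_cancel, commutatorElement_one_right] at h'
      rw [eq_inv_of_mul_eq_one_left h'.symm, commutatorElement_inv]
    have i2 : ⁅(a : GLn)⁻¹, q⁆ = ⁅(a : GLn), q⁆⁻¹ := by
      have h' : ⁅q, (a : GLn)⁻¹ * a⁆ = ⁅q, (a : GLn)⁻¹⁆ * ⁅q, (a : GLn)⁆ :=
        comm_mul_right (D.comm_mem _ hqS _ haS)
      rw [inv_mul_cancel, commutatorElement_one_right] at h'
      rw [← commutatorElement_inv q, eq_inv_of_mul_eq_one_left h'.symm, inv_inv, commutatorElement_inv]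
    have e : ⁅p * (a : GLn)⁻¹, q * (a : GLn)⁻¹⁆ = ⁅p, q⁆ * ⁅p, (a : GLn)⁻¹⁆ * ⁅(a : GLn)⁻¹, q⁆ := by
      have h1 : ⁅p * (a : GLn)⁻¹, q * (a : GLn)⁻¹⁆ = ⁅p * (a : GLn)⁻¹, q⁆ * ⁅p * (a : GLn)⁻¹, (a : GLn)⁻¹⁆ :=
        comm_mul_right (D.comm_mem _ (S.mul_mem hpS hai) _ hai)
      have h2 : ⁅p * (a : GLn)⁻¹, q⁆ = ⁅p, q⁆ * ⁅(a : GLn)⁻¹, q⁆ := by
        calc ⁅p * (a : GLn)⁻¹, q⁆ = p * ⁅(a : GLn)⁻¹, q⁆ * p⁻¹ * ⁅p, q⁆ := by
              simp only [commutatorElement_def]; group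
          _ = _ := by rw [← scalar_comm (D.comm_mem _ hai _ hqS) p, mul_inv_cancel_right,
              scalar_comm (D.comm_mem _ hai _ hqS)]
      have h3 : ⁅p * (a : GLn)⁻¹, (a : GLn)⁻¹⁆ = ⁅p, (a : GLn)⁻¹⁆ := by
        simp only [commutatorElement_def]; group
      rw [h1, h2, h3, mul_assoc, scalar_comm (D.comm_mem _ hai _ hqS), ← mul_assoc]
    rw [e, hpq, i1, i2, ← pow_two, mul_inv_eq_one] at h
    exact h.symm
  have hpol : ∀ a b : S, ⁅(a : GLn), (cj (cj b) : GLn)⁆ * ⁅(b : GLn), (cj (cj a) : GLn)⁆ =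
      (⁅(a : GLn), (cj b : GLn)⁆ * ⁅(b : GLn), (cj a : GLn)⁆) ^ 2 := by
    intro a b
    let β : S → S → Subgroup.center (GL (Fin n) F) := fun x y =>
      ⟨⁅(x : GLn), (y : GLn)⁆, Subgroup.mem_center_iff.mpr fun z =>
        (scalar_comm (D.comm_mem _ x.2 _ y.2) z).symm⟩
    have br : ∀ x y z : S, β x (y * z) = β x y * β x z := fun x y z =>
      Subtype.ext (comm_mul_right (D.comm_mem _ x.2 _ z.2))
    have bl : ∀ x y z : S, β (y * z) x = β y x * β z x := fun x y z => Subtype.ext (by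
      show ⁅((y * z : S) : GLn), (x : GLn)⁆ = ⁅(y : GLn), (x : GLn)⁆ * ⁅(z : GLn), (x : GLn)⁆
      rw [← commutatorElement_inv (x : GLn), Subgroup.coe_mul, comm_mul_right (D.comm_mem _ x.2 _ z.2),
        _root_.mul_inv_rev, commutatorElement_inv, commutatorElement_inv]
      exact scalar_comm (D.comm_mem _ z.2 _ x.2) _)
    letI : CommGroup (Subgroup.center (GL (Fin n) F)) :=
      { (inferInstance : Group (Subgroup.center (GL (Fin n) F))) with
        mul_comm := fun u v => Subtype.ext (Subgroup.mem_center_iff.mp v.2 u.1) }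
    have q' : ∀ x : S, β x (cj (cj x)) = β x (cj x) ^ 2 := fun x => Subtype.ext (hq x)
    have h := q' (a * b)
    simp only [map_mul, br, bl] at h
    rw [q' a, q' b] at h
    have goal : β a (cj (cj b)) * β b (cj (cj a)) = (β a (cj b) * β b (cj a)) ^ 2 := by
      simp only [pow_two] at h ⊢
      refine mul_left_cancel (a := β a (cj a) * β a (cj a) * (β b (cj b) * β b (cj b))) ?_
      calc β a (cj a) * β a (cj a) * (β b (cj b) * β b (cj b)) * (β a (cj (cj b)) * β b (cj (cj a)))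
          = β a (cj a) * β a (cj a) * β b (cj (cj a)) * (β a (cj (cj b)) * (β b (cj b) * β b (cj b))) := by ac_rfl
        _ = _ := by rw [h]; ac_rfl
    exact congrArg Subtype.val goal

  have hrel : ∀ b : S, (QuotientGroup.mk (cj^[4] b) : A) * (QuotientGroup.mk b)⁻¹ =
      ((QuotientGroup.mk (cj^[3] b) : A) * (QuotientGroup.mk (cj b))⁻¹) ^ 2 := by
    intro b
    rw [← QuotientGroup.mk_inv, ← QuotientGroup.mk_inv, ← QuotientGroup.mk_mul, ← QuotientGroup.mk_mul,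
      ← QuotientGroup.mk_pow, QuotientGroup.eq]
    show _ ∈ Sc
    refine D.nondeg _ ?_ fun u hu => ?_
    · rw [Subgroup.coe_subtype]; exact SetLike.coe_mem _
    rw [Subgroup.coe_subtype]
    have hpol' := hpol ⟨u, D.le_S hu⟩ (cj (cj b))
    have c1 : ⁅((cj (cj b) : S) : GLn), ((cj (cj ⟨u, D.le_S hu⟩) : S) : GLn)⁆ = ⁅(b : GLn), u⁆ :=
      (hconj _ _ (cj b).2 (cj ⟨u, D.le_S hu⟩).2).trans (hconj _ _ b.2 (D.le_S hu))
    have c2 : ⁅((cj (cj b) : S) : GLn), ((cj ⟨u, D.le_S hu⟩ : S) : GLn)⁆ = ⁅((cj b : S) : GLn), u⁆ :=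
      hconj _ _ (cj b).2 (D.le_S hu)
    rw [c1, c2] at hpol'
    let β : S →* GL (Fin n) F := MonoidHom.mk' (fun y => ⁅u, (y : GLn)⁆) fun y z =>
      comm_mul_right (D.comm_mem _ (D.le_S hu) _ z.2)
    have hβ : ∀ y : S, ⁅u, (y : GLn)⁆ = β y := fun y => rfl
    rw [hβ, map_mul, map_inv, map_mul, map_inv, map_pow, map_mul, map_inv, inv_mul_eq_one]
    show ⁅u, ((cj^[4] b : S) : GLn)⁆ * ⁅u, (b : GLn)⁆⁻¹ =
      (⁅u, ((cj^[3] b : S) : GLn)⁆ * ⁅u, ((cj b : S) : GLn)⁆⁻¹) ^ 2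
    rw [commutatorElement_inv, commutatorElement_inv]
    exact hpol'
  let Ta : AddMonoid.End (Additive A) := MonoidHom.toAdditive T
  let D1 : AddMonoid.End (Additive A) := Ta - 1
  have eadd : ∀ (f f' : AddMonoid.End (Additive A)) v, (f + f') v = f v + f' v := fun _ _ _ => rfl
  have emul : ∀ (f f' : AddMonoid.End (Additive A)) v, (f * f') v = f (f' v) := fun _ _ _ => rfl
  have ezero : ∀ v, (0 : AddMonoid.End (Additive A)) v = 0 := fun _ => rfl
  have hD : ∀ v, (D1 + 1) v = Ta v := fun v => by simp [D1]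
  have hit : ∀ (m : ℕ) (a : S), ((D1 + 1) ^ m) (Additive.ofMul (QuotientGroup.mk a : A)) =
      Additive.ofMul (QuotientGroup.mk (cj^[m] a) : A) := by
    intro m a
    induction m with
    | zero => rfl
    | succ m ih => rw [pow_succ', AddMonoid.End.coe_mul, Function.comp_apply, ih, hD,
        Function.iterate_succ_apply']; rfl
  have hP : (D1 + 1) ^ k = 1 := by
    refine DFunLike.ext _ _ fun v => ?_
    obtain ⟨a, ha⟩ := QuotientGroup.mk_surjective (Additive.toMul v)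
    rw [show v = Additive.ofMul (QuotientGroup.mk a : A) from congrArg Additive.ofMul ha.symm, hit]
    refine congrArg Additive.ofMul (congrArg QuotientGroup.mk (Subtype.ext ?_))
    rw [hcj, hgk, inv_one, mul_one, one_mul]
  have hrel' : (D1 + 1) ^ 4 - 1 = (2 : ℕ) • ((D1 + 1) ^ 3 - (D1 + 1)) := by
    refine DFunLike.ext _ _ fun v => ?_
    obtain ⟨a, ha⟩ := QuotientGroup.mk_surjective (Additive.toMul v)
    rw [show v = Additive.ofMul (QuotientGroup.mk a : A) from congrArg Additive.ofMul ha.symm]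
    show ((D1 + 1) ^ 4 : AddMonoid.End (Additive A)) _ - Additive.ofMul (QuotientGroup.mk a : A) =
      (2 : ℕ) • (((D1 + 1) ^ 3 : AddMonoid.End (Additive A)) _ - (D1 + 1) _)
    rw [hit, hit, show (D1 + 1) (Additive.ofMul (QuotientGroup.mk a : A)) =
      Additive.ofMul (QuotientGroup.mk (cj a) : A) by rw [hD]; rfl]
    rw [← ofMul_div, ← ofMul_div, ← ofMul_pow, div_eq_mul_inv, div_eq_mul_inv]
    exact congrArg Additive.ofMul (hrel a)
  have hr : ∀ v : Additive A, r • v = 0 := by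
    intro v
    obtain ⟨a, ha⟩ := QuotientGroup.mk_surjective (Additive.toMul v)
    rw [show v = Additive.ofMul (QuotientGroup.mk a : A) from congrArg Additive.ofMul ha.symm, ← ofMul_pow,
      ← QuotientGroup.mk_pow, (QuotientGroup.eq_one_iff _).mpr]
    · rfl
    show ((a ^ r : S) : GLn) ∈ Sc
    refine D.nondeg _ (a ^ r).2 fun u hu => ?_
    have key : ∀ m : ℕ, ⁅u, (a : GLn) ^ m⁆ = ⁅u, (a : GLn)⁆ ^ m := by
      intro m
      induction m with
      | zero => simp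
      | succ m ih => rw [pow_succ, comm_mul_right (D.comm_mem _ (D.le_S hu) _ a.2), ih, pow_succ]
    rw [SubmonoidClass.coe_pow, key, D.comm_pow _ (D.le_S hu) _ a.2]
  have hTk : ∀ (v : Additive A), D1 (D1 v) = 0 → D1 v = 0 := by
    intro v hv
    have h : ∀ m : ℕ, ((D1 + 1) ^ m) v = v + m • D1 v := by
      intro m
      induction m with
      | zero => simp
      | succ m ih =>
        rw [pow_succ', AddMonoid.End.coe_mul, Function.comp_apply, ih, map_add, map_nsmul,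
          eadd, eadd, hv, AddMonoid.End.one_apply, AddMonoid.End.one_apply,
          zero_add, succ_nsmul]
        abel
    have hk0 : k • D1 v = 0 := by
      have := h k
      rw [hP, AddMonoid.End.one_apply, left_eq_add] at this
      exact this
    have h1 : addOrderOf (D1 v) ∣ Nat.gcd k r :=
      Nat.dvd_gcd (addOrderOf_dvd_of_nsmul_eq_zero hk0) (addOrderOf_dvd_of_nsmul_eq_zero (hr _))
    rw [(Nat.coprime_primes hk D.prime).mpr hkr, Nat.dvd_one, AddMonoid.addOrderOf_eq_one_iff] at h1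
    exact h1
  have hzero : ∀ (j : ℕ) (v : Additive A), (D1 ^ (j + 1)) v = 0 → D1 v = 0 := by
    intro j
    induction j with
    | zero => intro v hv; simpa using hv
    | succ j ih =>
      intro v hv
      refine ih v ?_
      rw [pow_succ' D1 j, AddMonoid.End.coe_mul, Function.comp_apply]
      refine hTk _ ?_
      rw [pow_succ' D1 (j + 1), pow_succ' D1 j, AddMonoid.End.coe_mul, Function.comp_apply, AddMonoid.End.coe_mul,
        Function.comp_apply] at hv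
      exact hv
  have hfac : (D1 + 1 + 1) * D1 ^ 3 = 0 := by
    have e : (D1 + 1 + 1) * D1 ^ 3 = ((D1 + 1) ^ 4 - 1) - (2 : ℕ) • ((D1 + 1) ^ 3 - (D1 + 1)) := by noncomm_ring
    rw [e, hrel', sub_self]
  intro x hx
  have hD0 : D1 (Additive.ofMul (QuotientGroup.mk ⟨x, hx⟩ : A)) = 0 := by
    rcases eq_or_ne r 2 with rfl | hr2
    · refine hzero 3 _ ?_
      have h := DFunLike.congr_fun hfac (Additive.ofMul (QuotientGroup.mk ⟨x, hx⟩ : A))
      rw [add_mul, add_mul, one_mul, eadd, eadd, emul, ezero] at h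
      rw [pow_succ']
      have h2 := hr ((D1 ^ 3) (Additive.ofMul (QuotientGroup.mk ⟨x, hx⟩ : A)))
      rw [two_nsmul] at h2
      rw [add_assoc, h2, add_zero] at h
      exact h
    · refine hzero 2 _ ?_
      set w := (D1 ^ 3) (Additive.ofMul (QuotientGroup.mk ⟨x, hx⟩ : A))
      have hw : (D1 + 1) w = -w := by
        have h := DFunLike.congr_fun hfac (Additive.ofMul (QuotientGroup.mk ⟨x, hx⟩ : A))
        rw [emul, ezero, eadd, AddMonoid.End.one_apply] at h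
        exact eq_neg_of_add_eq_zero_left h
      have hm : ∀ m : ℕ, ((D1 + 1) ^ (2 * m + 1)) w = -w := by
        intro m
        induction m with
        | zero => simpa using hw
        | succ m ih =>
          rw [show 2 * (m + 1) + 1 = 2 * m + 1 + 1 + 1 from by ring, pow_succ', AddMonoid.End.coe_mul,
            Function.comp_apply, pow_succ', AddMonoid.End.coe_mul, Function.comp_apply, ih, map_neg, hw, neg_neg, hw]
      obtain ⟨m, hm'⟩ := hk.odd_of_ne_two hk2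
      have h := hm m
      rw [← hm', hP, AddMonoid.End.one_apply, eq_neg_iff_add_eq_zero, ← two_nsmul] at h
      have h1 : addOrderOf w ∣ Nat.gcd 2 r :=
        Nat.dvd_gcd (addOrderOf_dvd_of_nsmul_eq_zero h) (addOrderOf_dvd_of_nsmul_eq_zero (hr _))
      rw [(Nat.coprime_primes Nat.prime_two D.prime).mpr (Ne.symm hr2), Nat.dvd_one,
        AddMonoid.addOrderOf_eq_one_iff] at h1
      exact h1
  have h := hD (Additive.ofMul (QuotientGroup.mk ⟨x, hx⟩ : A))
  rw [eadd, hD0, zero_add, AddMonoid.End.one_apply] at h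
  have h' : (QuotientGroup.mk ⟨x, hx⟩ : A) = QuotientGroup.mk (cj ⟨x, hx⟩) := congrArg Additive.toMul h
  rw [QuotientGroup.eq] at h'
  have h'' : x⁻¹ * (g * x * g⁻¹) ∈ Sc := h'
  rw [show ⁅g, x⁆ = x * (x⁻¹ * (g * x * g⁻¹)) * x⁻¹ by rw [commutatorElement_def]; group]
  exact scalars_normal.conj_mem _ h'' x

end Cfsg.Agent.ExtraEigen
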