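import Cfsg.Agent.Lib.ExtraEigen.Main
import Mathlib.GroupTheory.Nilpotent

/-! The case of an element whose order is the characteristic prime of the extraspecial group. -/

set_option autoImplicit false

namespace Cfsg.Agent.ExtraEigen

open Matrix Module
open scoped commutatorElement Pointwise

variable {F : Type*} [Field F] {n r : ℕ} {R S : Subgroup (GL (Fin n) F)}

local notation "Sc" => Cfsg.Geo.scalars (Fin n) F

theorem Datum.exists_step (D : Datum R r S) [Finite F] {g : GL (Fin n) F} (hgS : ∀ a ∈ S, g * a * g⁻¹ ∈ S)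
    (hgr : g ^ r = 1) (hbad : ∃ x ∈ S, ⁅g, x⁆ ∉ Sc) :
    ∃ x ∈ R, ⁅g, x⁆ ∈ S ∧ ⁅g, x⁆ ∉ Sc ∧ ⁅g, ⁅g, x⁆⁆ ∈ Sc := by
  classical
  haveI := Fact.mk D.prime
  haveI : Finite (GL (Fin n) F) := Finite.of_injective _ Units.val_injective
  obtain ⟨x0, hx0, hb⟩ := hbad
  have hnz : g ∈ Subgroup.normalizer (S : Set (GL (Fin n) F)) := by
    rw [Subgroup.mem_normalizer_iff]
    have hpow : ∀ (m : ℕ) (a : GL (Fin n) F), a ∈ S → g ^ m * a * (g ^ m)⁻¹ ∈ S := by
      intro m
      induction m with
      | zero => intro a ha; simpa using ha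
      | succ m ih =>
        intro a ha
        have := hgS _ (ih a ha)
        rw [pow_succ']
        simpa [mul_assoc] using this
    intro a
    refine ⟨hgS a, fun h => ?_⟩
    have := hpow (r - 1) _ h
    rwa [show g ^ (r - 1) * (g * a * g⁻¹) * (g ^ (r - 1))⁻¹ =
      (g ^ (r - 1) * g) * a * (g ^ (r - 1) * g)⁻¹ by group, ← pow_succ, Nat.sub_add_cancel D.prime.pos, hgr,
      one_mul, inv_one, mul_one] at this
  set L := Subgroup.zpowers g ⊔ S with hL
  have hcoe : (L : Set (GL (Fin n) F)) = (Subgroup.zpowers g : Set (GL (Fin n) F)) * (S : Set (GL (Fin n) F)) :=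
    Subgroup.coe_mul_of_left_le_normalizer_right _ _ (Subgroup.zpowers_le.mpr hnz)
  have hSL : S ≤ L := le_sup_right
  have hgL : g ∈ L := le_sup_left (a := Subgroup.zpowers g) (Subgroup.mem_zpowers g)
  haveI hN : ((Cfsg.Geo.scalars (Fin n) F).subgroupOf L).Normal := scalars_normal.subgroupOf L
  have hp : IsPGroup r (L ⧸ (Cfsg.Geo.scalars (Fin n) F).subgroupOf L) := by
    intro q
    obtain ⟨l, rfl⟩ := QuotientGroup.mk_surjective q
    refine ⟨2, ?_⟩
    rw [← QuotientGroup.mk_pow, QuotientGroup.eq_one_iff, Subgroup.mem_subgroupOf, SubmonoidClass.coe_pow,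
      pow_two, pow_mul]
    have h1 : (l : GL (Fin n) F) ^ r ∈ S := by
      haveI : (S.subgroupOf L).Normal := Subgroup.normal_subgroupOf_of_le_normalizer
        (sup_le (Subgroup.zpowers_le.mpr hnz) Subgroup.le_normalizer)
      obtain ⟨a, ha, b, hb, hab⟩ := (Set.ext_iff.mp hcoe l).mp l.2
      have e : (QuotientGroup.mk l : L ⧸ S.subgroupOf L) =
          QuotientGroup.mk (⟨a, (le_sup_left : _ ≤ L) ha⟩ : L) := by
        rw [QuotientGroup.eq, Subgroup.mem_subgroupOf]
        show (l : GL (Fin n) F)⁻¹ * a ∈ S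
        rw [← hab, _root_.mul_inv_rev, mul_assoc, inv_mul_cancel, mul_one]
        exact S.inv_mem hb
      have e' := congrArg (fun z => z ^ r) e
      simp only [← QuotientGroup.mk_pow] at e'
      rw [show (⟨a, (le_sup_left : _ ≤ L) ha⟩ : L) ^ r = 1 from Subtype.ext (by
        obtain ⟨i, rfl⟩ := ha
        show (g ^ i) ^ r = 1
        rw [← zpow_natCast, ← _root_.zpow_mul, mul_comm, _root_.zpow_mul, zpow_natCast, hgr, _root_.one_zpow]),
        QuotientGroup.mk_one, QuotientGroup.eq_one_iff, Subgroup.mem_subgroupOf, SubmonoidClass.coe_pow] at e'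
      exact e'
    refine D.nondeg _ (S.pow_mem h1 r) fun u hu => ?_
    have key : ∀ m : ℕ, ⁅u, ((l : GL (Fin n) F) ^ r) ^ m⁆ = ⁅u, (l : GL (Fin n) F) ^ r⁆ ^ m := by
      intro m
      induction m with
      | zero => simp
      | succ m ih => rw [pow_succ, comm_mul_right (D.comm_mem _ (D.le_S hu) _ h1), ih, pow_succ]
    rw [key, D.comm_pow _ (D.le_S hu) _ h1]
  haveI : Group.IsNilpotent (L ⧸ (Cfsg.Geo.scalars (Fin n) F).subgroupOf L) := hp.isNilpotent
  obtain ⟨c, hc⟩ := Subgroup.nilpotent_iff_lowerCentralSeries.mp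
    (inferInstance : Group.IsNilpotent (L ⧸ (Cfsg.Geo.scalars (Fin n) F).subgroupOf L))
  let it : ℕ → GL (Fin n) F := fun m => (fun y => ⁅g, y⁆)^[m] x0
  have hitS : ∀ m, it m ∈ S := by
    intro m
    induction m with
    | zero => exact hx0
    | succ m ih =>
      simp only [it, Function.iterate_succ_apply']
      rw [commutatorElement_def]
      exact S.mul_mem (hgS _ ih) (S.inv_mem ih)
  have hlcs : ∀ m, (QuotientGroup.mk (⟨it m, hSL (hitS m)⟩ : L) :
      L ⧸ (Cfsg.Geo.scalars (Fin n) F).subgroupOf L) ∈ (⊤ : Subgroup _).lowerCentralSeries m := by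
    intro m
    induction m with
    | zero => exact Subgroup.mem_top _
    | succ m ih =>
      rw [show (⟨it (m + 1), hSL (hitS (m + 1))⟩ : L) = ⁅(⟨g, hgL⟩ : L), ⟨it m, hSL (hitS m)⟩⁆ from
        Subtype.ext (by simp only [it, Function.iterate_succ_apply']; rfl), Subgroup.lowerCentralSeries_succ]
      show QuotientGroup.mk' _ _ ∈ _
      rw [map_commutatorElement, ← commutatorElement_inv]
      exact Subgroup.inv_mem _ (Subgroup.commutator_mem_commutator ih (Subgroup.mem_top _))
  have hend : it c ∈ Sc := by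
    have h := hlcs c
    rw [hc, Subgroup.mem_bot, QuotientGroup.eq_one_iff] at h
    exact h
  have hex : ∃ m, ⁅g, it m⁆ ∈ Sc := ⟨c, by
    rw [comm_scalar_right hend]; exact one_mem _⟩
  obtain ⟨m, hm, hmin⟩ : ∃ m, ⁅g, it m⁆ ∈ Sc ∧ ∀ j < m, ⁅g, it j⁆ ∉ Sc :=
    ⟨Nat.find hex, Nat.find_spec hex, fun j hj => Nat.find_min hex hj⟩
  rcases m with _ | m
  · exact absurd hm hb
  obtain ⟨x, hx, z, hz, hxz⟩ := D.split _ (hitS m)
  have e : ⁅g, x⁆ = it (m + 1) := by
    rw [show it (m + 1) = ⁅g, it m⁆ by simp only [it, Function.iterate_succ_apply'], hxz, comm_mul_scalar hz]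
  have hmin' := hmin m (Nat.lt_succ_self m)
  rw [show ⁅g, it m⁆ = it (m + 1) by simp only [it, Function.iterate_succ_apply']] at hmin'
  exact ⟨x, hx, e ▸ hitS _, e ▸ hmin', e ▸ hm⟩

variable [Fact r.Prime]

/-- Powers of an element whose exponent is killed by the prime. -/
theorem pow_val_add {M : Type*} [Monoid M] {a : M} (ha : a ^ r = 1) (i j : ZMod r) :
    a ^ (i + j).val = a ^ i.val * a ^ j.val := by
  rw [ZMod.val_add, ← pow_add, ← pow_eq_pow_mod _ ha]

theorem Datum.ram_bound (D : Datum R r S) [Finite F] {g : GL (Fin n) F} (hgS : ∀ a ∈ S, g * a * g⁻¹ ∈ S)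
    (hgr : g ^ r = 1) (hr5 : 5 ≤ r) (hbad : ∃ x ∈ S, ⁅g, x⁆ ∉ Sc) (c : F) :
    2 * finrank F (Eig g c) ≤ n := by
  classical
  rcases eq_or_ne c 0 with rfl | hc
  · rw [eig_zero]; simp
  have hrp : r.Prime := Fact.out
  obtain ⟨x, hxR, hyS, hyns, hgy⟩ := D.exists_step hgS hgr hbad
  obtain ⟨y, hydef⟩ : ∃ y, y = ⁅g, x⁆ := ⟨_, rfl⟩
  rw [← hydef] at hyS hyns hgy
  have hxS := D.le_S hxR
  have hygy : ⁅g, y⁆ ^ r = 1 := by rw [← comm_pow_left hgy, hgr, commutatorElement_one_left]
  by_cases hgy1 : ⁅g, y⁆ = 1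
  swap
  · have hz : ⁅g, y⁆⁻¹ ∈ Sc := inv_mem hgy
    have := shift_bound hrp hz (inv_ne_one.mpr hgy1) (by rw [inv_pow, hygy, inv_one]) (u := y) (y := g)
      (by rw [commutatorElement_def]; group) c
    nlinarith
  rw [commutatorElement_eq_one_iff_mul_comm] at hgy1
  -- y has order r
  set τ := ⁅x, y⁆ with hτdef
  have hτ : τ ∈ Sc := D.comm_mem _ hxS _ hyS
  have hτr : τ ^ r = 1 := D.comm_pow _ hxS _ hyS
  have hgx : g * x * g⁻¹ = y * x := by rw [hydef, commutatorElement_def]; group
  have hxy : x * y = τ * (y * x) := by rw [hτdef, commutatorElement_def]; group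
  have hpowyx : ∀ m : ℕ, (y * x) ^ m = τ ^ (m.choose 2) * (y ^ m * x ^ m) := by
    intro m
    have hxm : ∀ m : ℕ, x ^ m * y = τ ^ m * (y * x ^ m) := by
      intro m
      induction m with
      | zero => simp
      | succ m ih =>
        calc x ^ (m + 1) * y = x ^ m * (x * y) := by rw [pow_succ]; group
          _ = τ * (x ^ m * y) * x := by rw [hxy, ← mul_assoc, ← scalar_comm hτ]; group
          _ = _ := by rw [ih, pow_succ', pow_succ]; group
    induction m with
    | zero => simp
    | succ m ih =>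
      have hcm : ∀ a, τ ^ m * a = a * τ ^ m := scalar_comm (pow_mem hτ m)
      calc (y * x) ^ (m + 1) = τ ^ (m.choose 2) * (y ^ m * (x ^ m * y) * x) := by rw [pow_succ, ih]; group
        _ = τ ^ (m.choose 2) * ((y ^ m * τ ^ m) * (y * x ^ m) * x) := by rw [hxm]; group
        _ = _ := by
          rw [← hcm, Nat.choose_succ_succ', Nat.choose_one_right, pow_add, pow_succ, pow_succ]
          calc τ ^ (m.choose 2) * (τ ^ m * y ^ m * (y * x ^ m) * x)
              = (τ ^ (m.choose 2) * τ ^ m) * (y ^ m * y * (x ^ m * x)) := by group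
            _ = _ := by rw [← pow_add, Nat.add_comm, pow_add]
  have hxr : x ^ r = 1 := D.expo (by omega) x hxR
  have hyr : y ^ r = 1 := by
    have h := hpowyx r
    have hdiv : r ∣ r.choose 2 := hrp.dvd_choose_self two_ne_zero (by omega)
    obtain ⟨q, hq⟩ := hdiv
    rw [hq, pow_mul, hτr, one_pow, one_mul, hxr, mul_one, ← hgx, conj_pow, hxr, mul_one, mul_inv_cancel] at h
    exact h.symm
  -- a primitive root
  obtain ⟨u, huR, hu⟩ : ∃ u ∈ R, ⁅u, y⁆ ≠ 1 := by
    by_contra hc
    push Not at hc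
    exact hyns (D.nondeg y hyS hc)
  rcases eq_or_ne n 0 with hn | hn
  · exact absurd (Units.ext (by subst hn; exact Subsingleton.elim _ _)) hu
  have hscal : ∀ z ∈ Sc, z ^ r = 1 → ∃ w : F, w ^ r = 1 ∧ (z ≠ 1 → w ≠ 1) ∧
      ∀ v, (z : Matrix (Fin n) (Fin n) F) *ᵥ v = w • v := by
    intro z hz hzr
    obtain ⟨w, hw⟩ := (Cfsg.Geo.mem_scalars_iff z).mp hz
    refine ⟨w, ?_, fun hne e => hne (Units.ext (by rw [hw, e, one_smul, Units.val_one])),
      fun v => by rw [hw, Matrix.smul_mulVec, Matrix.one_mulVec]⟩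
    have h2 : ((z ^ r : GL (Fin n) F) : Matrix (Fin n) (Fin n) F) = (w : F) ^ r • 1 := by
      rw [Units.val_pow_eq_pow_val, hw, smul_pow, one_pow]
    rw [hzr, Units.val_one] at h2
    have h3 := congrFun (congrFun h2 ⟨0, Nat.pos_of_ne_zero hn⟩) ⟨0, Nat.pos_of_ne_zero hn⟩
    simpa using h3.symm
  obtain ⟨w, hwr, hw1', -⟩ := hscal _ (D.comm_mem _ (D.le_S huR) _ hyS) (D.comm_pow _ (D.le_S huR) _ hyS)
  have hw1 := hw1' hu
  have hprim : IsPrimitiveRoot w r := by rw [← orderOf_eq_prime hwr hw1]; exact IsPrimitiveRoot.orderOf w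
  let χ : ZMod r → F := fun i => w ^ i.val
  have hχadd : ∀ i j, χ (i + j) = χ i * χ j := fun i j => pow_val_add hwr i j
  have hχinj : Function.Injective χ := fun i j h =>
    ZMod.val_injective r (hprim.pow_inj (ZMod.val_lt _) (ZMod.val_lt _) h)
  have hχ0 : χ 0 = 1 := by simp [χ]
  have hχne : ∀ i, χ i ≠ 0 := fun i => pow_ne_zero _ (hprim.ne_zero hrp.ne_zero)
  have hχof : ∀ z : F, z ^ r = 1 → ∃ i, χ i = z := fun z hz => by
    obtain ⟨i, hi, e⟩ := hprim.eq_pow_of_pow_eq_one hz
    exact ⟨(i : ZMod r), by simp only [χ, ZMod.val_natCast, Nat.mod_eq_of_lt hi, e]⟩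
  have hrF : (r : F) ≠ 0 := (hprim.neZero').out
  -- decomposition along y
  set W := Eig g c with hW
  let E : ZMod r → Submodule F (Fin n → F) := fun i => Eig y (χ i)
  have hdec : W ≤ ⨆ i, W ⊓ E i := by
    intro v hv
    let Y : ZMod r → Matrix (Fin n) (Fin n) F := fun j => ((y ^ j.val : GL (Fin n) F) : Matrix _ _ F)
    have hY1 : ∀ j, (y : Matrix (Fin n) (Fin n) F) * Y j = Y (1 + j) := fun j => by
      simp only [Y]
      rw [pow_val_add hyr, Units.val_mul, ZMod.val_one, pow_one]
    let P : ZMod r → (Fin n → F) := fun i => ∑ j, χ (-(i * j)) • (Y j *ᵥ v)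
    have hPW : ∀ i, P i ∈ W := fun i => Submodule.sum_mem _ fun j _ => Submodule.smul_mem _ _ (by
      rw [hW, mem_eig] at hv ⊢
      simp only [Y]
      rw [Matrix.mulVec_mulVec, ← Units.val_mul, (Commute.pow_right hgy1 _).eq, Units.val_mul,
        ← Matrix.mulVec_mulVec, hv, Matrix.mulVec_smul])
    have hPE : ∀ i, P i ∈ E i := fun i => by
      show P i ∈ Eig y (χ i)
      rw [mem_eig, Matrix.mulVec_sum, Finset.smul_sum,
        ← Equiv.sum_comp (Equiv.addLeft (1 : ZMod r)) (fun j => χ i • χ (-(i * j)) • (Y j *ᵥ v))]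
      refine Finset.sum_congr rfl fun j _ => ?_
      rw [Equiv.coe_addLeft, Matrix.mulVec_smul, Matrix.mulVec_mulVec, hY1, smul_smul, ← hχadd]
      congr 2
      ring
    have hsum : ∑ i, P i = (r : F) • v := by
      rw [Finset.sum_comm, Finset.sum_eq_single 0]
      · simp only [mul_zero, neg_zero, hχ0, one_smul, Y, ZMod.val_zero, pow_zero, Units.val_one, Matrix.one_mulVec,
          Finset.sum_const, Finset.card_univ, ZMod.card, ← Nat.cast_smul_eq_nsmul F]
      · intro j _ hj
        rw [← Finset.sum_smul]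
        have h0 : ∑ i : ZMod r, χ (-(i * j)) = 0 := by
          rw [show (∑ i : ZMod r, χ (-(i * j))) = ∑ i : ZMod r, χ i from
            Fintype.sum_equiv (Equiv.ofBijective (fun i => -(i * j))
              ((Finite.injective_iff_bijective).mp fun a b h => mul_right_cancel₀ hj (neg_injective h))) _ _
              fun i => rfl]
          have h1 : χ 1 * ∑ i : ZMod r, χ i = ∑ i : ZMod r, χ i := by
            rw [Finset.mul_sum, ← Equiv.sum_comp (Equiv.addLeft (1 : ZMod r)) χ]
            exact Finset.sum_congr rfl fun i _ => (hχadd _ _).symm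
          by_contra hne
          exact one_ne_zero (hχinj (((mul_eq_right₀ hne).mp h1).trans hχ0.symm))
        rw [h0, zero_smul]
      · simp
    have hv' : v = (r : F)⁻¹ • ∑ i, P i := by rw [hsum, inv_smul_smul₀ hrF]
    rw [hv']
    refine Submodule.smul_mem _ _ (Submodule.sum_mem _ fun i _ => ?_)
    exact le_iSup (fun i => W ⊓ E i) i ⟨hPW i, hPE i⟩
  have hle := (finrank_le_sum (fun i => W ⊓ E i) W hdec)
  -- moving along x
  obtain ⟨t, htr, -, ht⟩ := hscal τ hτ hτr
  obtain ⟨e0, he0⟩ := hχof t htr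
  have hstep : ∀ (i m : ZMod r) (v : Fin n → F), v ∈ E i → v ∈ Eig g (c * χ m) →
      (x : Matrix (Fin n) (Fin n) F) *ᵥ v ∈ E (i - e0) ∧
      (x : Matrix (Fin n) (Fin n) F) *ᵥ v ∈ Eig g (c * χ (m + (i - e0))) := by
    intro i m v hi hm
    rw [mem_eig] at hi hm
    have h1 : (x : Matrix (Fin n) (Fin n) F) *ᵥ v ∈ E (i - e0) := by
      show _ ∈ Eig y (χ (i - e0))
      rw [mem_eig]
      have h' : (x : Matrix (Fin n) (Fin n) F) *ᵥ ((y : Matrix (Fin n) (Fin n) F) *ᵥ v) =
          t • ((y : Matrix (Fin n) (Fin n) F) *ᵥ ((x : Matrix (Fin n) (Fin n) F) *ᵥ v)) := by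
        rw [← ht, Matrix.mulVec_mulVec, Matrix.mulVec_mulVec, Matrix.mulVec_mulVec, ← Units.val_mul,
          ← Units.val_mul, ← Units.val_mul, hxy, mul_assoc]
      rw [hi, Matrix.mulVec_smul, ← he0, ← sub_add_cancel i e0, hχadd, mul_comm (χ (i - e0)), mul_smul] at h'
      exact smul_right_injective _ (hχne e0) h'.symm
    refine ⟨h1, ?_⟩
    have h1' := mem_eig.mp (show (x : Matrix (Fin n) (Fin n) F) *ᵥ v ∈ Eig y (χ (i - e0)) from h1)
    rw [mem_eig]
    have hgx' : g * x = y * x * g := by rw [← hgx]; group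
    rw [Matrix.mulVec_mulVec, ← Units.val_mul, hgx', Units.val_mul, Units.val_mul, ← Matrix.mulVec_mulVec, hm,
      Matrix.mulVec_smul, ← Matrix.mulVec_mulVec, h1', smul_smul, hχadd]
    ring_nf
  have h2 : (2 : ZMod r) ≠ 0 := fun h => by
    have h' : ((2 : ℕ) : ZMod r) = 0 := by simpa using h
    rw [ZMod.natCast_eq_zero_iff] at h'
    have := Nat.le_of_dvd (by norm_num) h'
    omega
  let φ : ZMod r → ℕ → ZMod r := fun i j =>
    (j : ZMod r) * i - (j : ZMod r) * ((j : ZMod r) + 1) / 2 * e0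
  have hiter : ∀ (i : ZMod r) (j : ℕ) (v : Fin n → F), v ∈ W ⊓ E i →
      ((x ^ j : GL (Fin n) F) : Matrix (Fin n) (Fin n) F) *ᵥ v ∈
        E (i - (j : ZMod r) * e0) ⊓ Eig g (c * χ (φ i j)) := by
    intro i j
    induction j with
    | zero => intro v hv; simp [φ, hχ0, E]; exact ⟨mem_eig.mp hv.2, mem_eig.mp hv.1⟩
    | succ j ih =>
      intro v hv
      rw [pow_succ', Units.val_mul, ← Matrix.mulVec_mulVec]
      obtain ⟨a, b⟩ := hstep _ _ _ (ih v hv).1 (ih v hv).2
      have e1 : i - (j : ZMod r) * e0 - e0 = i - ((j + 1 : ℕ) : ZMod r) * e0 := by push_cast; ring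
      have e2 : φ i j + (i - (j : ZMod r) * e0 - e0) = φ i (j + 1) := by
        simp only [φ]; push_cast; field_simp; ring
      rw [e2] at b
      rw [e1] at a
      exact ⟨a, b⟩
  have hyE : ∀ i, r * finrank F (E i) ≤ n := fun i => D.eig_bound hyS hyns _
  have hμinj : Function.Injective fun m : ZMod r => c * χ m := fun a b h => hχinj (mul_left_cancel₀ hc h)
  have hgE : ∀ i, ∑ m : ZMod r, finrank F (E i ⊓ Eig g (c * χ m) : Submodule F (Fin n → F)) ≤ finrank F (E i) :=
    fun i => sum_finrank_le _ (((Module.End.eigenspaces_iSupIndep _).comp hμinj).mono fun m => inf_le_right)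
      _ fun m => inf_le_left
  have hfin : r * finrank F W ≤ 2 * n := by
    rcases eq_or_ne e0 0 with he | he
    · have hone : ∀ i : ZMod r, i ≠ 0 → r * (r * finrank F (W ⊓ E i : Submodule F (Fin n → F))) ≤ n := by
        intro i hi
        refine le_trans (Nat.mul_le_mul_left r ?_) (hyE i)
        refine le_trans ?_ (hgE i)
        rw [show r * finrank F (W ⊓ E i : Submodule F (Fin n → F)) =
          ∑ _m : ZMod r, finrank F (W ⊓ E i : Submodule F (Fin n → F)) by simp]
        refine Finset.sum_le_sum fun m _ => finrank_le_of_maps (x := x ^ (m * i⁻¹).val) fun v hv => ?_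
        have h := hiter i (m * i⁻¹).val v hv
        have e1 : i - (((m * i⁻¹).val : ℕ) : ZMod r) * e0 = i := by rw [he]; ring
        have e2 : φ i (m * i⁻¹).val = m := by
          simp only [φ, he, ZMod.natCast_zmod_val, mul_zero, sub_zero]
          rw [mul_assoc, inv_mul_cancel₀ hi, mul_one]
        rw [e1, e2] at h
        exact h
      have h0 : r * finrank F (W ⊓ E 0 : Submodule F (Fin n → F)) ≤ n :=
        le_trans (Nat.mul_le_mul_left r (Submodule.finrank_mono inf_le_right)) (hyE 0)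
      rw [← Finset.sum_erase_add _ _ (Finset.mem_univ (0 : ZMod r))] at hle
      have hA : r * (r * ∑ i ∈ Finset.univ.erase (0 : ZMod r), finrank F (W ⊓ E i : Submodule F (Fin n → F))) ≤
          r * n := by
        rw [Finset.mul_sum, Finset.mul_sum]
        refine (Finset.sum_le_sum fun i hi => hone i (Finset.ne_of_mem_erase hi)).trans ?_
        rw [Finset.sum_const, smul_eq_mul, Finset.card_erase_of_mem (Finset.mem_univ _), Finset.card_univ, ZMod.card]
        exact Nat.mul_le_mul_right n (Nat.sub_le r 1)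
      have hA' := Nat.le_of_mul_le_mul_left hA hrp.pos
      calc r * finrank F W ≤ r * (_ + _) := Nat.mul_le_mul_left r hle
        _ = _ := Nat.mul_add _ _ _
        _ ≤ n + n := Nat.add_le_add hA' h0
        _ = 2 * n := (two_mul n).symm
    · let ψ : ZMod r → ZMod r := fun i => φ i (i / e0).val
      have hψ : ∀ i, finrank F (W ⊓ E i : Submodule F (Fin n → F)) ≤
          finrank F (E 0 ⊓ Eig g (c * χ (ψ i)) : Submodule F (Fin n → F)) := fun i =>
        finrank_le_of_maps (x := x ^ (i / e0).val) fun v hv => by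
          have h := hiter i (i / e0).val v hv
          have e1 : i - (((i / e0).val : ℕ) : ZMod r) * e0 = 0 := by
            rw [ZMod.natCast_zmod_val, div_mul_cancel₀ _ he, sub_self]
          rw [e1] at h
          exact h
      have hψ2 : ∀ i j, ψ i = ψ j → j = i ∨ j = e0 - i := by
        intro i j h
        simp only [ψ, φ, ZMod.natCast_zmod_val] at h
        field_simp at h
        have h' : (i - j) * (i + j - e0) = 0 := by linear_combination h
        rcases mul_eq_zero.mp h' with h'' | h''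
        · left; linear_combination -h''
        · right; linear_combination h''
      have hbound : ∑ i, finrank F (W ⊓ E i : Submodule F (Fin n → F)) ≤ 2 * finrank F (E 0) := by
        refine (Finset.sum_le_sum fun i _ => hψ i).trans ?_
        rw [Finset.sum_comp (fun m => finrank F (E 0 ⊓ Eig g (c * χ m) : Submodule F (Fin n → F))) ψ]
        refine le_trans ?_ (Nat.mul_le_mul_left 2 (hgE 0))
        rw [Finset.mul_sum]
        refine le_trans ?_ (Finset.sum_le_sum_of_subset (Finset.subset_univ (Finset.univ.image ψ)))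
        refine Finset.sum_le_sum fun m hm => ?_
        rw [smul_eq_mul]
        refine Nat.mul_le_mul_right _ ?_
        obtain ⟨i0, -, rfl⟩ := Finset.mem_image.mp hm
        refine le_trans (Finset.card_le_card (t := {i0, e0 - i0}) fun j hj => ?_) Finset.card_le_two
        rcases hψ2 i0 j (Finset.mem_filter.mp hj).2.symm with rfl | rfl <;> simp
      calc r * finrank F W ≤ r * (2 * finrank F (E 0)) := Nat.mul_le_mul_left r (hle.trans hbound)
        _ = 2 * (r * finrank F (E 0)) := by ring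
        _ ≤ _ := Nat.mul_le_mul_left 2 (hyE 0)
  nlinarith

end Cfsg.Agent.ExtraEigen
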